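import Mathlib
import Cfsg.Agent.Lib.Helper25.LSF.TreeFix

set_option autoImplicit false

namespace Cfsg.Agent.Lib.Helper25.LSF

open FreeGroup

variable {X : Type*} [DecidableEq X]

/-- The tree step with the first letter made explicit: `x` has length one, lies on the
geodesic from `1` to `w`, and is strictly closer to every `u` than the farther of `1`, `w`. -/
theorem tree_step' (w : FreeGroup X) (hw : 2 ≤ FreeGroup.norm w) :
    ∃ x : FreeGroup X, FreeGroup.norm x = 1 ∧ FreeGroup.norm (x⁻¹ * w) + 1 = FreeGroup.norm w ∧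
      ∀ u : FreeGroup X,
        FreeGroup.norm (x⁻¹ * u) + 1 ≤ max (FreeGroup.norm u) (FreeGroup.norm (w⁻¹ * u)) := by
  obtain ⟨a, t, hat⟩ : ∃ a t, w.toWord = a :: t := by
    cases h : w.toWord with
    | nil => unfold FreeGroup.norm at hw; rw [h] at hw; simp at hw
    | cons a t => exact ⟨a, t, rfl⟩
  have ht : t ≠ [] := by
    rintro rfl
    unfold FreeGroup.norm at hw; rw [hat] at hw; simp at hw
  have hx1 : FreeGroup.norm (FreeGroup.mk [a] : FreeGroup X) = 1 := by
    unfold FreeGroup.norm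
    rw [FreeGroup.toWord_mk, FreeGroup.reduce_singleton]
    rfl
  have hwn : FreeGroup.norm w = t.length + 1 := by
    unfold FreeGroup.norm; rw [hat]; simp
  have htred : FreeGroup.IsReduced t := by
    have := @FreeGroup.isReduced_toWord X _ w
    rw [hat] at this
    exact this.infix ⟨[a], [], by simp⟩
  have hxw : (FreeGroup.mk [a] : FreeGroup X)⁻¹ * w = FreeGroup.mk t := by
    have hw' : w = FreeGroup.mk [a] * FreeGroup.mk t := by
      rw [FreeGroup.mul_mk]
      have := @FreeGroup.mk_toWord X _ w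
      rw [hat] at this
      exact this.symm
    rw [hw', inv_mul_cancel_left]
  refine ⟨FreeGroup.mk [a], hx1, ?_, fun u => ?_⟩
  · rw [hxw, hwn]
    unfold FreeGroup.norm
    rw [FreeGroup.toWord_mk, htred.reduce_eq]
  have hxn : FreeGroup.norm (FreeGroup.mk [a] : FreeGroup X)⁻¹ ≤ 1 := by
    rw [FreeGroup.norm_inv_eq]
    exact FreeGroup.norm_mk_le
  by_cases hU : ∃ U', u.toWord = a :: U'
  · obtain ⟨U', hU'⟩ := hU
    have hu : u = FreeGroup.mk [a] * FreeGroup.mk U' := by
      rw [FreeGroup.mul_mk]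
      have := @FreeGroup.mk_toWord X _ u
      rw [hU'] at this
      exact this.symm
    have h1 : (FreeGroup.mk [a] : FreeGroup X)⁻¹ * u = FreeGroup.mk U' := by
      rw [hu, inv_mul_cancel_left]
    rw [h1]
    have h2 : FreeGroup.norm (FreeGroup.mk U' : FreeGroup X) ≤ U'.length := FreeGroup.norm_mk_le
    have h3 : FreeGroup.norm u = U'.length + 1 := by
      unfold FreeGroup.norm; rw [hU']; simp
    omega
  · have h1 : FreeGroup.norm ((FreeGroup.mk [a] : FreeGroup X)⁻¹ * u) ≤ 1 + FreeGroup.norm u :=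
      le_trans (FreeGroup.norm_mul_le _ _) (by omega)
    have hred : FreeGroup.IsReduced (FreeGroup.invRev t ++ [(a.1, !a.2)] ++ u.toWord) := by
      apply FreeGroup.IsReduced.append_overlap
      · have := @FreeGroup.isReduced_toWord X _ (w⁻¹)
        rw [FreeGroup.toWord_inv, hat, FreeGroup.invRev_cons] at this
        simpa [FreeGroup.invRev] using this
      · have hu := @FreeGroup.isReduced_toWord X _ u
        cases hc : u.toWord with
        | nil => exact FreeGroup.IsReduced.singleton
        | cons b U' =>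
          rw [hc] at hu
          show FreeGroup.IsReduced ((a.1, !a.2) :: b :: U')
          rw [FreeGroup.isReduced_cons_cons]
          refine ⟨fun hab => ?_, hu⟩
          have hne : b ≠ a := by
            rintro rfl
            exact hU ⟨U', hc⟩
          have hab' : a.1 = b.1 := hab
          by_contra hcon
          apply hne
          have : b.2 = a.2 := by
            have hcon' : ¬ ((!a.2) = b.2) := hcon
            cases ha2 : a.2 <;> cases hb2 : b.2 <;> simp [ha2, hb2] at hcon' ⊢
          exact Prod.ext hab'.symm this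
      · simp
    have h2 : FreeGroup.norm (w⁻¹ * u) = t.length + 1 + FreeGroup.norm u := by
      unfold FreeGroup.norm
      rw [FreeGroup.toWord_mul, FreeGroup.toWord_inv, hat, FreeGroup.invRev_cons]
      have e : FreeGroup.invRev t ++ FreeGroup.invRev [a] ++ u.toWord
          = FreeGroup.invRev t ++ [(a.1, !a.2)] ++ u.toWord := by
        simp [FreeGroup.invRev]
      rw [e, hred.reduce_eq]
      simp [FreeGroup.invRev_length]
      omega
    have h3 : 1 ≤ t.length := List.length_pos_iff.mpr ht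
    have h4 : FreeGroup.norm u + 2 ≤ FreeGroup.norm (w⁻¹ * u) := by omega
    have h5 := le_max_right (FreeGroup.norm u) (FreeGroup.norm (w⁻¹ * u))
    omega

/-- Relative version: a finite group acting on a free group by maps preserving the word metric,
never swapping two adjacent elements, and preserving a nonempty geodesically closed subset `T`
(a subtree), has a fixed point inside `T`. -/
theorem exists_fixed_in {H : Type*} [Group H] [Finite H]
    (act : H → FreeGroup X → FreeGroup X) (T : Set (FreeGroup X)) (o : FreeGroup X) (ho : o ∈ T)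
    (hT : ∀ a v, v ∈ T → act a v ∈ T)
    (hconv : ∀ v v', v ∈ T → v' ∈ T → ∀ x : FreeGroup X, FreeGroup.norm x = 1 →
      FreeGroup.norm (x⁻¹ * (v⁻¹ * v')) + 1 = FreeGroup.norm (v⁻¹ * v') → v * x ∈ T)
    (h1 : ∀ v, act 1 v = v) (hmul : ∀ a b v, act (a * b) v = act a (act b v))
    (hiso : ∀ a v w, FreeGroup.norm ((act a v)⁻¹ * act a w) = FreeGroup.norm (v⁻¹ * w))
    (hninv : ∀ a v, FreeGroup.norm (v⁻¹ * act a v) = 1 → act a (act a v) ≠ v) :
    ∃ v ∈ T, ∀ a, act a v = v := by
  classical
  haveI : Fintype H := Fintype.ofFinite H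
  obtain ⟨r, hr⟩ : ∃ r : FreeGroup X → ℕ,
      r = fun v => Finset.univ.sup (fun a : H => FreeGroup.norm (v⁻¹ * act a o)) := ⟨_, rfl⟩
  have hle : ∀ v a, FreeGroup.norm (v⁻¹ * act a o) ≤ r v := by
    intro v a
    rw [hr]
    exact Finset.le_sup (f := fun a : H => FreeGroup.norm (v⁻¹ * act a o)) (Finset.mem_univ a)
  have hsup : ∀ v k, (∀ a, FreeGroup.norm (v⁻¹ * act a o) ≤ k) → r v ≤ k := by
    intro v k h
    rw [hr]
    exact Finset.sup_le (fun a _ => h a)
  have hinv1 : ∀ b v, r (act b v) ≤ r v := by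
    intro b v
    apply hsup
    intro a
    have e : act a o = act b (act (b⁻¹ * a) o) := by
      rw [← hmul, mul_inv_cancel_left]
    rw [e, hiso]
    exact hle _ _
  have hinv : ∀ b v, r (act b v) = r v := by
    intro b v
    apply le_antisymm (hinv1 b v)
    have := hinv1 b⁻¹ (act b v)
    rwa [← hmul, inv_mul_cancel, h1] at this
  have hex : ∃ k, ∃ v, v ∈ T ∧ r v = k := ⟨r o, o, ho, rfl⟩
  obtain ⟨v, hvT, hv⟩ := Nat.find_spec hex
  have hmin : ∀ v', v' ∈ T → Nat.find hex ≤ r v' := fun v' hv' => Nat.find_min' hex ⟨v', hv', rfl⟩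
  rw [← hv] at hmin
  have hclose : ∀ v₁ v₂, v₁ ∈ T → v₂ ∈ T → r v₁ = r v → r v₂ = r v →
      FreeGroup.norm (v₁⁻¹ * v₂) ≤ 1 := by
    intro v₁ v₂ hT₁ hT₂ h₁ h₂
    by_contra hcon
    have hw : 2 ≤ FreeGroup.norm (v₁⁻¹ * v₂) := by omega
    obtain ⟨x, hx1, hx2, hx⟩ := tree_step' (v₁⁻¹ * v₂) hw
    have hxT : v₁ * x ∈ T := hconv v₁ v₂ hT₁ hT₂ x hx1 hx2
    have key : ∀ a, FreeGroup.norm ((v₁ * x)⁻¹ * act a o) + 1 ≤ r v := by
      intro a
      have h := hx (v₁⁻¹ * act a o)
      have e1 : (v₁ * x)⁻¹ * act a o = x⁻¹ * (v₁⁻¹ * act a o) := by group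
      have e2 : (v₁⁻¹ * v₂)⁻¹ * (v₁⁻¹ * act a o) = v₂⁻¹ * act a o := by group
      rw [e1]
      rw [e2] at h
      have ha1 := hle v₁ a
      have ha2 := hle v₂ a
      rw [h₁] at ha1
      rw [h₂] at ha2
      exact le_trans h (max_le ha1 ha2)
    have hpos : 1 ≤ r v := le_trans (Nat.le_add_left _ _) (key 1)
    have : r (v₁ * x) ≤ r v - 1 := by
      apply hsup
      intro a
      have := key a
      omega
    have := hmin (v₁ * x) hxT
    omega
  refine ⟨v, hvT, fun a => ?_⟩
  by_contra hne
  have hd1 : FreeGroup.norm (v⁻¹ * act a v) ≤ 1 :=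
    hclose v (act a v) hvT (hT a v hvT) rfl (hinv a v)
  have hd0 : FreeGroup.norm (v⁻¹ * act a v) ≠ 0 := by
    rw [Ne, FreeGroup.norm_eq_zero]
    intro h
    apply hne
    have : v * (v⁻¹ * act a v) = v * 1 := by rw [h]
    rw [mul_inv_cancel_left, mul_one] at this
    exact this
  have hd : FreeGroup.norm (v⁻¹ * act a v) = 1 := by omega
  have hd' : FreeGroup.norm ((act a v)⁻¹ * act a (act a v)) = 1 := by rw [hiso, hd]
  have hv2 : act a (act a v) ≠ v := hninv a v hd
  have h2 := hclose v (act a (act a v)) hvT (hT a _ (hT a v hvT)) rfl (by rw [hinv, hinv])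
  have e : v⁻¹ * act a (act a v) = (v⁻¹ * act a v) * ((act a v)⁻¹ * act a (act a v)) := by group
  rcases norm_mul_of_norm_one _ _ hd hd' with h0 | h0
  · rw [← e, FreeGroup.norm_eq_zero] at h0
    apply hv2
    have : v * (v⁻¹ * act a (act a v)) = v * 1 := by rw [h0]
    rw [mul_inv_cancel_left, mul_one] at this
    exact this
  · rw [← e] at h0
    omega

end Cfsg.Agent.Lib.Helper25.LSF
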