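import Mathlib
import Cfsg.Agent.Lib.Helper25.LSF.TreeFix2

set_option autoImplicit false

namespace Cfsg.Agent.Lib.Helper25.LSF

open FreeGroup

variable {X : Type*} [DecidableEq X]

/-- A length-one element `x` with `norm (x⁻¹ * w) + 1 = norm w` is the first letter of `w`. -/
theorem first_letter {x w : FreeGroup X} (hx : FreeGroup.norm x = 1)
    (hxw : FreeGroup.norm (x⁻¹ * w) + 1 = FreeGroup.norm w) :
    ∃ a t, x = FreeGroup.mk [a] ∧ w.toWord = a :: t := by
  obtain ⟨a, ha⟩ := List.length_eq_one_iff.mp hx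
  have hxa : x = FreeGroup.mk [a] := by
    have := @FreeGroup.mk_toWord X _ x
    rw [ha] at this
    exact this.symm
  by_cases hU : ∃ t, w.toWord = a :: t
  · obtain ⟨t, ht⟩ := hU
    exact ⟨a, t, hxa, ht⟩
  · exfalso
    have hred : FreeGroup.IsReduced ([(a.1, !a.2)] ++ w.toWord) := by
      have hu := @FreeGroup.isReduced_toWord X _ w
      cases hc : w.toWord with
      | nil => exact FreeGroup.IsReduced.singleton
      | cons b U' =>
        rw [hc] at hu
        show FreeGroup.IsReduced ((a.1, !a.2) :: b :: U')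
        rw [FreeGroup.isReduced_cons_cons]
        refine ⟨fun hab => ?_, hu⟩
        have hne : b ≠ a := by
          rintro rfl
          exact hU ⟨U', hc⟩
        have hab' : a.1 = b.1 := hab
        by_contra hcon
        apply hne
        have : b.2 = a.2 := by
          have hcon' : ¬ ((!a.2) = b.2) := hcon
          cases ha2 : a.2 <;> cases hb2 : b.2 <;> simp [ha2, hb2] at hcon' ⊢
        exact Prod.ext hab'.symm this
    have h2 : FreeGroup.norm (x⁻¹ * w) = 1 + FreeGroup.norm w := by
      unfold FreeGroup.norm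
      rw [FreeGroup.toWord_mul, FreeGroup.toWord_inv, ha]
      have e : FreeGroup.invRev [a] ++ w.toWord = [(a.1, !a.2)] ++ w.toWord := by
        simp [FreeGroup.invRev]
      rw [e, hred.reduce_eq]
      simp
      omega
    omega

/-- `exists_fixed_in` with the geodesic closure of `T` stated through the first letter of the
reduced word of `v⁻¹ * v'`. -/
theorem exists_fixed_in' {H : Type*} [Group H] [Finite H]
    (act : H → FreeGroup X → FreeGroup X) (T : Set (FreeGroup X)) (o : FreeGroup X) (ho : o ∈ T)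
    (hT : ∀ a v, v ∈ T → act a v ∈ T)
    (hconv : ∀ v v', v ∈ T → v' ∈ T → ∀ (a : X × Bool) (t : List (X × Bool)),
      (v⁻¹ * v').toWord = a :: t → v * FreeGroup.mk [a] ∈ T)
    (h1 : ∀ v, act 1 v = v) (hmul : ∀ a b v, act (a * b) v = act a (act b v))
    (hiso : ∀ a v w, FreeGroup.norm ((act a v)⁻¹ * act a w) = FreeGroup.norm (v⁻¹ * w))
    (hninv : ∀ a v, FreeGroup.norm (v⁻¹ * act a v) = 1 → act a (act a v) ≠ v) :
    ∃ v ∈ T, ∀ a, act a v = v := by
  apply exists_fixed_in act T o ho hT ?_ h1 hmul hiso hninv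
  intro v v' hv hv' x hx hxw
  obtain ⟨a, t, rfl, ht⟩ := first_letter hx hxw
  exact hconv v v' hv hv' a t ht

end Cfsg.Agent.Lib.Helper25.LSF
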