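import Mathlib
import Cfsg.Agent.Lib.Helper67.LSF.Defs
import Cfsg.Agent.Lib.Helper25.LSF.TreeFix3

set_option autoImplicit false

namespace Cfsg.Agent.Lib.Helper25.LSF

open Cfsg Cfsg.Agent.Lib.Helper67.LSF

universe u

theorem toWord_autX {Q : Type u} [Group Q] {X : Type u} [DecidableEq X] (α : Q →* Equiv.Perm X)
    (q : Q) (g : FreeGroup X) :
    (autX α q g).toWord = g.toWord.map fun ℓ => (α q ℓ.1, ℓ.2) := by
  have hg : g = FreeGroup.mk g.toWord := FreeGroup.mk_toWord.symm
  have hred : FreeGroup.IsReduced (g.toWord.map fun ℓ => (α q ℓ.1, ℓ.2)) := by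
    have h := @FreeGroup.isReduced_toWord X _ g
    unfold FreeGroup.IsReduced at h ⊢
    rw [List.isChain_map]
    refine h.imp ?_
    intro a b hab h1
    exact hab ((α q).injective h1)
  conv_lhs => rw [hg, autX_mk]
  rw [FreeGroup.toWord_mk, hred.reduce_eq]

theorem norm_autX {Q : Type u} [Group Q] {X : Type u} [DecidableEq X] (α : Q →* Equiv.Perm X)
    (q : Q) (g : FreeGroup X) : FreeGroup.norm (autX α q g) = FreeGroup.norm g := by
  unfold FreeGroup.norm
  rw [toWord_autX, List.length_map]

theorem pkgTree : PkgTree.{u} := by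
  intro Q _ X α H _ V h1V hinv hconv
  classical
  have hc : ∀ v v', v ∈ V → v' ∈ V → ∀ (a : X × Bool) (t : List (X × Bool)),
      (v⁻¹ * v').toWord = a :: t → v * FreeGroup.mk [a] ∈ V := by
    intro v v' hv hv' a t hat
    have hr : FreeGroup.IsReduced ([a] ++ t) := by
      have := @FreeGroup.isReduced_toWord X _ (v⁻¹ * v')
      rw [hat] at this
      exact this
    apply hconv v hv [a] t hr
    have h2 : FreeGroup.mk ([a] ++ t) = v⁻¹ * v' := by
      have := @FreeGroup.mk_toWord X _ (v⁻¹ * v')
      rw [hat] at this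
      exact this
    rw [h2, mul_inv_cancel_left]
    exact hv'
  have h1 : ∀ v : FreeGroup X, ((1 : H) : SemidirectProduct (FreeGroup X) Q (autX α)).left *
      autX α ((1 : H) : SemidirectProduct (FreeGroup X) Q (autX α)).right v = v := by
    intro v
    simp
  have hmul : ∀ (a b : H) (v : FreeGroup X),
      ((a * b : H) : SemidirectProduct (FreeGroup X) Q (autX α)).left *
        autX α ((a * b : H) : SemidirectProduct (FreeGroup X) Q (autX α)).right v =
      (a : SemidirectProduct (FreeGroup X) Q (autX α)).left *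
        autX α (a : SemidirectProduct (FreeGroup X) Q (autX α)).right
          ((b : SemidirectProduct (FreeGroup X) Q (autX α)).left *
            autX α (b : SemidirectProduct (FreeGroup X) Q (autX α)).right v) := by
    intro a b v
    simp only [Subgroup.coe_mul, SemidirectProduct.mul_left, SemidirectProduct.mul_right,
      map_mul, MulAut.mul_apply, mul_assoc]
  have hiso : ∀ (a : H) (v w : FreeGroup X),
      FreeGroup.norm (((a : SemidirectProduct (FreeGroup X) Q (autX α)).left *
        autX α (a : SemidirectProduct (FreeGroup X) Q (autX α)).right v)⁻¹ *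
        ((a : SemidirectProduct (FreeGroup X) Q (autX α)).left *
        autX α (a : SemidirectProduct (FreeGroup X) Q (autX α)).right w)) =
      FreeGroup.norm (v⁻¹ * w) := by
    intro a v w
    have h2 : ((a : SemidirectProduct (FreeGroup X) Q (autX α)).left *
        autX α (a : SemidirectProduct (FreeGroup X) Q (autX α)).right v)⁻¹ *
        ((a : SemidirectProduct (FreeGroup X) Q (autX α)).left *
        autX α (a : SemidirectProduct (FreeGroup X) Q (autX α)).right w) =
        autX α (a : SemidirectProduct (FreeGroup X) Q (autX α)).right (v⁻¹ * w) := by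
      rw [map_mul, map_inv]
      group
    rw [h2, norm_autX]
  have hninv : ∀ (a : H) (v : FreeGroup X),
      FreeGroup.norm (v⁻¹ * ((a : SemidirectProduct (FreeGroup X) Q (autX α)).left *
        autX α (a : SemidirectProduct (FreeGroup X) Q (autX α)).right v)) = 1 →
      (a : SemidirectProduct (FreeGroup X) Q (autX α)).left *
        autX α (a : SemidirectProduct (FreeGroup X) Q (autX α)).right
          ((a : SemidirectProduct (FreeGroup X) Q (autX α)).left *
            autX α (a : SemidirectProduct (FreeGroup X) Q (autX α)).right v) ≠ v := by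
    intro a v hn hcon
    obtain ⟨f, hf⟩ : ∃ f, f = (a : SemidirectProduct (FreeGroup X) Q (autX α)).left := ⟨_, rfl⟩
    obtain ⟨q, hq⟩ : ∃ q, q = (a : SemidirectProduct (FreeGroup X) Q (autX α)).right := ⟨_, rfl⟩
    rw [← hf, ← hq] at hn hcon
    obtain ⟨x, hx⟩ : ∃ x, x = v⁻¹ * (f * autX α q v) := ⟨_, rfl⟩
    have hvx : f * autX α q v = v * x := by rw [hx, mul_inv_cancel_left]
    rw [← hx] at hn
    rw [hvx, map_mul, ← mul_assoc, hvx] at hcon
    have hxx : autX α q x = x⁻¹ := by
      have h3 : v * (x * autX α q x) = v * 1 := by rw [← mul_assoc, hcon, mul_one]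
      have h4 := mul_left_cancel h3
      exact eq_inv_of_mul_eq_one_right h4
    have hw := congrArg FreeGroup.toWord hxx
    rw [toWord_autX, FreeGroup.toWord_inv] at hw
    obtain ⟨c, hc⟩ := List.length_eq_one_iff.mp hn
    rw [hc] at hw
    simp [FreeGroup.invRev] at hw
  obtain ⟨v, hvV, hv⟩ := exists_fixed_in' (H := H)
    (fun h v => (h : SemidirectProduct (FreeGroup X) Q (autX α)).left *
      autX α (h : SemidirectProduct (FreeGroup X) Q (autX α)).right v) V 1 h1V
    (fun a v hv => hinv a a.2 v hv) hc h1 hmul hiso hninv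
  exact ⟨v, hvV, fun h hh => hv ⟨h, hh⟩⟩

end Cfsg.Agent.Lib.Helper25.LSF
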